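import Groth.Agent.Lib.SerreCorr.Main
import Groth.Agent.Lib.KAugNil98.Main
import Groth.Agent.Lib.CurveBundle.Rank
import Groth.Agent.Lib.FundLocal.DetSES
import Groth.Agent.Lib.FundLocal.ExtPowExists
import Groth.Agent.Lib.ExtFilt.Lambda
import Groth.Agent.Lib.CohDelta.BC.Flat
import Groth.Agent.Lib.DerivedOX.TensorSheaf
import Groth.Agent.Lib.Regular.UFD
import Groth.Agent.Lib.Cyc.SmoothReg
import Groth.Agent.S7885

/-!
# Rank and determinant of a Serre bundle
-/

set_option autoImplicit false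
set_option linter.style.haveILetI false
set_option linter.unusedSectionVars false
universe u

open CategoryTheory CategoryTheory.Limits AlgebraicGeometry Opposite
open CategoryTheory.Abelian

noncomputable section

namespace Groth.Agent.Lib.SerreCorr

open Groth.Agent.Lib Groth.Agent.Lib.Modules
open Groth.Agent.Lib.TensorMod.Basic Groth.Agent.Lib.ProjCoh Groth.Agent.Lib.ProjCoh.Coherent
open scoped TensorProduct

variable {n : ℕ} {k : Type u} [Field k] {Y : Scheme.{u}} (i : Y ⟶ CohB1.ProjSpace n k) [IsClosedImmersion i]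
  (hlci : RegImm.IsRegularImmersionOfCodim RegImm.Kind.regular 2 i)

theorem isRegularLocalRing_stalk (x : CohB1.ProjSpace n k) :
    IsRegularLocalRing ((CohB1.ProjSpace n k).presheaf.stalk x) :=
  Cyc.SmoothReg.isRegularLocalRing_stalk (CohB1.ProjSpace.toSpec n k) x

include hlci in
theorem two_le_dim (z : Y) : 2 ≤ ringKrullDim ((CohB1.ProjSpace n k).presheaf.stalk (i z)) := by
  obtain ⟨U, hU, hz, f, -, hreg, hker, -⟩ := FundLocal.Gen.exists_chart i hlci z
  obtain ⟨hR, hspan⟩ := FundLocal.Gen.isReg_germ i hU f hreg hker z hz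
  haveI := isRegularLocalRing_stalk (n := n) (k := k) (i z)
  let rs := List.ofFn fun j => (CohB1.ProjSpace n k).presheaf.germ U (i z) hz (f j)
  have hne : Ideal.ofList rs ≠ ⊤ := by
    intro h
    have h1 : (1 : (CohB1.ProjSpace n k).presheaf.stalk (i z)) ∈ RingHom.ker (i.stalkMap z).hom := by
      rw [← hspan, show Set.range (fun j => (CohB1.ProjSpace n k).presheaf.germ U (i z) hz (f j)) = {r | r ∈ rs} by
        ext; simp [rs, eq_comm]]
      exact h.ge Submodule.mem_top
    rw [RingHom.mem_ker, map_one] at h1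
    exact one_ne_zero h1
  have hr : RingTheory.Sequence.IsRegular ((CohB1.ProjSpace n k).presheaf.stalk (i z)) rs :=
    ⟨hR, by rw [smul_eq_mul, Ideal.mul_top]; exact hne.symm⟩
  haveI : Nontrivial ((CohB1.ProjSpace n k).presheaf.stalk (i z) ⧸ Ideal.ofList rs) :=
    Ideal.Quotient.nontrivial_iff.mpr hne
  rw [← ringKrullDim_add_length_eq_ringKrullDim_of_isRegular rs hr]
  simp only [rs, List.length_ofFn]
  exact le_add_of_nonneg_left ringKrullDim_nonneg_of_nontrivial

/-- The complement of `Y`. -/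
def compl : (CohB1.ProjSpace n k).Opens := ⟨(Set.range i.base)ᶜ, i.isClosedEmbedding.isClosed_range.isOpen_compl⟩

include hlci in
theorem genericPoint_mem : genericPoint (CohB1.ProjSpace n k) ∈ compl i := by
  rintro ⟨z, hz⟩
  have h := two_le_dim i hlci z
  rw [hz] at h
  have h2 : IsField ((CohB1.ProjSpace n k).presheaf.stalk (genericPoint (CohB1.ProjSpace n k))) :=
    letI : Field ((CohB1.ProjSpace n k).presheaf.stalk (genericPoint (CohB1.ProjSpace n k))) :=
      inferInstanceAs (Field (CohB1.ProjSpace n k).functionField)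
    Field.toIsField _
  rw [ringKrullDim_eq_zero_of_isField h2] at h
  exact absurd h (by decide)

/-- The twisted ideal sequence. -/
abbrev twSeq (c : ℤ) [(tensorBy (tw n k c)).Additive] : ShortComplex (CohB1.ProjSpace n k).Modules :=
  (ClSub.Quot.idealSeq i.ker).map (tensorBy (tw n k c))

theorem subsingleton_twQuot (c : ℤ) {x : CohB1.ProjSpace n k} (hx : x ∈ compl i) :
    Subsingleton ((CohB1.tensorMod (_root_.ClSub.quotMod i.ker) (tw n k c)).presheaf.stalk x) := by
  obtain ⟨e⟩ := ArtinFun.QuotModIso.nonempty_iso_quotMod i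
  haveI : Subsingleton ((_root_.ClSub.quotMod i.ker).presheaf.stalk x) := by
    have h : x ∉ CohB1.support (_root_.ClSub.quotMod i.ker) := by
      rw [← Support.support_congr e]
      exact Support.not_mem_support_iff.2 (PushClosed.Unit.subsingleton_stalk_push i _ hx)
    exact Support.not_mem_support_iff.1 h
  exact (DerivedOX.TensorSheaf.tensorStalk x (_root_.ClSub.quotMod i.ker) (tw n k c)).toEquiv.subsingleton

variable (c : ℤ) {S : ShortComplex (CohB1.ProjSpace n k).Modules} (hS : S.ShortExact)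
  (e₁ : S.X₁ ≅ Coh.structureModule (CohB1.ProjSpace n k))
  (e₃ : S.X₃ ≅ CohB1.tensorMod (ClSub.idealMod i.ker) (tw n k c))

include hlci hS e₁ e₃ in
/-- A Serre bundle has rank two. -/
theorem rank_two (hE : FlatMod.IsFinLocFree S.X₂) : FlatMod.IsFinLocFreeOfRank 2 S.X₂ := by
  obtain ⟨r, hr⟩ := KAugNil98.Main.exists_rank hE
  haveI : (tensorBy (tw n k c)).IsEquivalence := CurveBundle.Twist.isEquivalence (isInvertible_tw c)
  haveI : (tensorBy (tw n k c)).Additive := CurveBundle.GP.additive_tensorBy _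
  have hT : (twSeq i c).ShortExact := (ClSub.Quot.idealSeq_shortExact i.ker).map_of_exact _
  let u : (twSeq i c).X₂ ≅ tw n k c := leftUnit (tw n k c)
  have h1 : FlatMod.IsFinLocFreeOfRank 1 (twSeq i c).X₂ :=
    TensorMod.LocFree.rank_of_iso u.symm (TensorMod.LocFree.of_isInvertible (isInvertible_tw c))
  have hq : CurveBundle.Rank.grank (twSeq i c).X₃ = 0 := by
    haveI : Subsingleton ((twSeq i c).X₃.presheaf.stalk (genericPoint ↥(CohB1.ProjSpace n k))) :=
      subsingleton_twQuot i c (genericPoint_mem i hlci)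
    exact Module.finrank_zero_of_subsingleton
  have hI : CurveBundle.Rank.grank (twSeq i c).X₁ = 1 := by
    have := CurveBundle.Rank.grank_add hT (Perfect.Coherent.isCoh_of_isFinLocFree (TensorMod.LocFree.of_rank h1))
    rw [CurveBundle.Rank.grank_eq_of_rank h1, hq] at this
    omega
  have h2 := CurveBundle.Rank.grank_add hS (Perfect.Coherent.isCoh_of_isFinLocFree hE)
  rw [CurveBundle.Rank.grank_congr e₁, CurveBundle.Rank.grank_congr e₃,
    CurveBundle.Rank.grank_eq_of_rank (TensorMod.LocFree.of_isInvertible (PicLoc.isInvertible_structureModule _)),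
    CurveBundle.Rank.grank_eq_of_rank hr] at h2
  rw [show CurveBundle.Rank.grank (CohB1.tensorMod (ClSub.idealMod i.ker) (tw n k c)) = 1 from hI] at h2
  obtain rfl : r = 2 := h2
  exact hr

include hlci hS e₁ e₃ in
/-- The determinant of a Serre bundle. -/
theorem exists_det (hE : FlatMod.IsFinLocFreeOfRank 2 S.X₂) :
    ∃ D : (CohB1.ProjSpace n k).Modules, ExtPow.IsExtPow 2 S.X₂ D ∧ Nonempty (D ≅ tw n k c) := by
  let P := CohB1.ProjSpace n k
  haveI := (Perfect.Coherent.isCoh_of_isFinLocFree (TensorMod.LocFree.of_rank hE)).1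
  obtain ⟨D, hD⟩ := FundLocal.ExtPowExists.exists_isExtPow S.X₂ 2
  refine ⟨D, hD, ?_⟩
  obtain ⟨A⟩ := Cyc.CH.nonempty_detAtlas_of_isExtPow hE hD
  let U := compl i
  let G := Scheme.Modules.pullback U.ι
  haveI := CohDelta.BC.Flat.preservesFiniteLimits_pullback U.ι
  haveI : G.Additive := (Scheme.Modules.pullbackPushforwardAdjunction U.ι).left_adjoint_additive
  haveI : PreservesColimitsOfSize.{0, 0} G :=
    (Scheme.Modules.pullbackPushforwardAdjunction U.ι).leftAdjoint_preservesColimits
  haveI : PreservesFiniteColimits G := PreservesColimitsOfSize.preservesFiniteColimits _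
  haveI : (tensorBy (tw n k c)).IsEquivalence := CurveBundle.Twist.isEquivalence (isInvertible_tw c)
  haveI : (tensorBy (tw n k c)).Additive := CurveBundle.GP.additive_tensorBy _
  have hT : ((twSeq i c).map G).ShortExact :=
    ((ClSub.Quot.idealSeq_shortExact i.ker).map_of_exact (tensorBy (tw n k c))).map_of_exact G
  have hz : IsZero ((twSeq i c).map G).X₃ := by
    refine IsZero.of_iso ?_ ((Scheme.Modules.restrictFunctorIsoPullback U.ι).app (twSeq i c).X₃).symm
    refine Support.support_eq_empty_iff.1 (Set.eq_empty_iff_forall_notMem.2 fun x hx => ?_)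
    have hx' : x ∈ CohB1.support ((twSeq i c).X₃.restrict U.ι) := hx
    rw [Support.support_restrict] at hx'
    exact Support.not_mem_support_iff.2 (subsingleton_twQuot i c x.2) hx'
  haveI := hT.mono_f
  haveI : Epi ((twSeq i c).map G).f := (ShortComplex.exact_iff_epi _ (hz.eq_of_tgt _ _)).1 hT.exact
  have hf : IsIso ((twSeq i c).map G).f := isIso_of_mono_of_epi _
  let w₃ : G.obj S.X₃ ≅ G.obj (tw n k c) :=
    G.mapIso e₃ ≪≫ @asIso _ _ _ _ ((twSeq i c).map G).f hf ≪≫ G.mapIso (leftUnit (tw n k c))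
  let w₁ : G.obj S.X₁ ≅ Coh.structureModule (U : Scheme.{u}) := G.mapIso e₁ ≪≫ PicLoc.pullbackStructureIso U.ι
  have r₁ : FlatMod.IsFinLocFreeOfRank 1 (G.obj S.X₁) := TensorMod.LocFree.rank_of_iso w₁.symm
    (TensorMod.LocFree.of_isInvertible (PicLoc.isInvertible_structureModule _))
  have r₃ : FlatMod.IsFinLocFreeOfRank 1 (G.obj S.X₃) := TensorMod.LocFree.rank_of_iso w₃.symm
    (TensorMod.LocFree.rank_pullback U.ι (TensorMod.LocFree.of_isInvertible (isInvertible_tw c)))
  obtain ⟨A₁⟩ := Cyc.CH.nonempty_detAtlas_of_isExtPow r₁ (ExtFilt.Lambda.isExtPow_one _)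
  obtain ⟨A₃⟩ := Cyc.CH.nonempty_detAtlas_of_isExtPow r₃ (ExtFilt.Lambda.isExtPow_one _)
  obtain ⟨A₂⟩ := FundLocal.DetSES.nonempty_detAtlas (hS.map_of_exact G) (rfl : 1 + 1 = 2) A₁ A₃
  obtain ⟨A'⟩ := A.nonempty_pullback U.ι (TensorMod.LocFree.rank_pullback U.ι hE)
  obtain ⟨a⟩ := A'.nonempty_iso A₂
  let b : G.obj D ≅ G.obj (tw n k c) := a ≪≫ tensorIso w₁ w₃ ≪≫ leftUnit _
  have hL : PicF.IsInvertible (CohB1.tensorMod D (tw n k (-c))) :=
    TensorMod.LocFree.isInvertible_of_rank_one (TensorMod.LocFree.rank_tensorMod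
      (TensorMod.LocFree.of_isInvertible A.isInvertible) (TensorMod.LocFree.of_isInvertible (isInvertible_tw (-c))))
  let t : (CohB1.tensorMod D (tw n k (-c))).restrict U.ι ≅ Coh.structureModule (U : Scheme.{u}) :=
    (Scheme.Modules.restrictFunctorIsoPullback U.ι).app _ ≪≫ TensorMod.Pullback.pullbackTensorIso U.ι D (tw n k (-c)) ≪≫
      tensorIso b (Iso.refl _) ≪≫ (TensorMod.Pullback.pullbackTensorIso U.ι (tw n k c) (tw n k (-c))).symm ≪≫
      G.mapIso (twCancel c (-c) (add_neg_cancel c)) ≪≫ PicLoc.pullbackStructureIso U.ι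
  have hreg : ∀ x : P, IsDomain (P.presheaf.stalk x) ∧ IsIntegrallyClosed (P.presheaf.stalk x) := fun x =>
    haveI := isRegularLocalRing_stalk (n := n) (k := k) x
    ⟨inferInstance, Regular.UFD.isIntegrallyClosed _⟩
  obtain ⟨q⟩ := (Groth.Agent.S7885.result P hreg U (fun x hx => by
    obtain ⟨z, rfl⟩ : x ∈ Set.range i.base := by_contra fun h => hx h
    exact two_le_dim i hlci z) _ hL).2 ⟨t⟩
  exact ⟨(rightUnit D).symm ≪≫ tensorIso (Iso.refl D) (twCancel (-c) c (neg_add_cancel c)).symm ≪≫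
    (assoc D (tw n k (-c)) (tw n k c)).symm ≪≫ tensorIso q (Iso.refl _) ≪≫ leftUnit _⟩

end Groth.Agent.Lib.SerreCorr
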