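import Groth.Agent.Lib.KVec.PushBPD
import Groth.Agent.Lib.FundLocal.Main
import Groth.Agent.Lib.ArtinFun.QuotModIso
import Groth.Agent.Lib.SqZeroMod.Basic
import Groth.Agent.Lib.ClSub.Quot
import Groth.Agent.Lib.ExtShStalk.Cor
import Groth.Agent.Lib.TensorMod.FPCrit
import Groth.Agent.Lib.ZarCoh.FP
import Groth.Agent.Lib.Modules.Support
import Groth.Agent.Lib.ProjDualExt.Twist
import Groth.Agent.S11155

/-!
# Local facts on regular immersions of codimension two
-/

set_option autoImplicit false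
set_option linter.style.haveILetI false
set_option linter.unusedSectionVars false
universe u

open CategoryTheory CategoryTheory.Limits AlgebraicGeometry Opposite
open CategoryTheory.Abelian

noncomputable section

namespace Groth.Agent.Lib.SerreCorr

open Groth.Agent.Lib Groth.Agent.Lib.Modules Groth.Agent.Lib.ExtShStalk Groth.Agent.Lib.Regular.PD
open Groth.Agent.Lib.FundLocal.Cocycle (M₀)

section Alg

variable {R : Type u} [CommRing R] {Q N : ModuleCat.{u} R}

/-- A nonzerodivisor on `N` killing `Q` leaves no homomorphism `Q ⟶ N`. -/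
theorem hom_eq_zero {a : R} (hQ : ∀ v : Q, a • v = 0) (hN : IsSMulRegular N a) (f : Q ⟶ N) : f = 0 := by
  refine ModuleCat.hom_ext (LinearMap.ext fun v => hN ?_)
  show a • f.hom v = a • 0
  rw [smul_zero, ← map_smul, hQ, map_zero]

/-- A regular pair killing `Q` kills the first Ext group. -/
theorem subsingleton_ext_one {a b : R} (ha : ∀ v : Q, a • v = 0) (hb : ∀ v : Q, b • v = 0)
    (hN : IsSMulRegular N a) (hN' : IsSMulRegular (QuotSMulTop a N) b) :
    Subsingleton (Ext.{u} Q N 1) := by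
  refine subsingleton_of_forall_eq 0 fun x => ?_
  have hS := hN.smulShortComplex_shortExact
  have hQ : a • 𝟙 Q = 0 := ModuleCat.hom_ext (LinearMap.ext fun v => ha v)
  have hf : ((N).smulShortComplex a).f = a • 𝟙 N := rfl
  have hx' : x.comp (Ext.mk₀ (a • 𝟙 N : N ⟶ N)) (add_zero 1) = 0 :=
    calc x.comp (Ext.mk₀ (a • 𝟙 N : N ⟶ N)) (add_zero 1) = a • x := by
          rw [Ext.mk₀_smul (r := a) (f := 𝟙 N), Ext.comp_smul, Ext.comp_mk₀_id]
      _ = (Ext.mk₀ (a • 𝟙 Q : Q ⟶ Q)).comp x (zero_add 1) := by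
          rw [Ext.mk₀_smul (r := a) (f := 𝟙 Q), Ext.smul_comp, Ext.mk₀_id_comp]
      _ = 0 := by rw [hQ, Ext.mk₀_zero, Ext.zero_comp]
  have hx : x.comp (Ext.mk₀ ((N).smulShortComplex a).f) (add_zero 1) = 0 := hx'
  obtain ⟨y, hy⟩ := Ext.covariant_sequence_exact₁ Q hS x hx (zero_add 1)
  obtain ⟨y, rfl⟩ := (Ext.mk₀_bijective _ _).2 y
  obtain rfl : y = 0 := hom_eq_zero (N := ModuleCat.of R (QuotSMulTop a N)) hb hN' y
  refine hy.symm.trans ?_
  erw [Ext.mk₀_zero, Ext.zero_comp]
  rfl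

end Alg

variable {P X : Scheme.{u}} (ι : X ⟶ P) [IsClosedImmersion ι]
  (hι : RegImm.IsRegularImmersionOfCodim RegImm.Kind.regular 2 ι)

include hι in
/-- The structure module of `X` has projective dimension at most two. -/
theorem pd_M₀ [IsLocallyNoetherian P] (y : P) : PDle (P.presheaf.stalk y) ((M₀ ι).presheaf.stalk y) 2 := by
  by_cases hy : y ∈ Set.range ι.base
  swap
  · haveI := PushClosed.Unit.subsingleton_stalk_push ι (Coh.structureModule X) hy
    exact pdle_mono (pdle_zero_iff.mpr Module.Projective.of_free) (Nat.zero_le 2)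
  obtain ⟨z, rfl⟩ := hy
  obtain ⟨U, hU, hz, f, -, hreg, hker, -⟩ := FundLocal.Gen.exists_chart ι hι z
  let F := Coh.structureModule X
  have hF : FlatMod.IsFinLocFree F :=
    TensorMod.LocFree.of_rank (TensorMod.LocFree.of_isInvertible (PicLoc.isInvertible_structureModule X))
  have hV : IsAffineOpen (ι ⁻¹ᵁ U) := hU.preimage ι
  haveI := Modules.AffineSections.isQCoh_of_isFinLocFree hF
  haveI := QCoh.Pushforward.isQCoh_pushforward (f := ι) (M := F)
  obtain ⟨hfin, hproj⟩ := Modules.AffineSections.finite_projective_sections hF hV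
  letI : Algebra Γ(P, U) Γ(X, ι ⁻¹ᵁ U) := (ι.app U).hom.toAlgebra
  letI : Module Γ(P, U) Γ(F, ι ⁻¹ᵁ U) := Module.compHom _ (ι.app U).hom
  haveI : IsScalarTower Γ(P, U) Γ(X, ι ⁻¹ᵁ U) Γ(F, ι ⁻¹ᵁ U) := IsScalarTower.of_algebraMap_smul fun _ _ => rfl
  have hsurj : Function.Surjective (algebraMap Γ(P, U) Γ(X, ι ⁻¹ᵁ U)) := ι.app_surjective U hU
  haveI : IsNoetherianRing Γ(P, U) := IsLocallyNoetherian.component_noetherian ⟨U, hU⟩
  have h : PDle Γ(P, U) Γ(F, ι ⁻¹ᵁ U) (List.ofFn f).length :=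
    KVec.PushBPD.pdle_projective_quot (B := Γ(X, ι ⁻¹ᵁ U)) hsurj (List.ofFn f)
      (hker.trans (congrArg Ideal.span (by ext; simp [eq_comm]))) hreg
  rw [List.length_ofFn] at h
  letI := StalkLoc.Basic.moduleSections (M₀ ι) hz
  letI := TopCat.Presheaf.algebra_section_stalk P.presheaf (⟨ι.base z, hz⟩ : U)
  haveI := StalkLoc.Basic.isScalarTower_sections (M₀ ι) hz
  haveI := hU.isLocalization_stalk ⟨ι.base z, hz⟩
  haveI := StalkLoc.Basic.isLocalizedModule_germ (M := M₀ ι) hU hz
  haveI : Module.Finite Γ(P, U) Γ(X, ι ⁻¹ᵁ U) :=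
    Module.Finite.of_surjective (Algebra.linearMap Γ(P, U) Γ(X, ι ⁻¹ᵁ U)) hsurj
  have h2 : Module.Finite Γ(P, U) Γ(F, ι ⁻¹ᵁ U) := Module.Finite.trans Γ(X, ι ⁻¹ᵁ U) _
  haveI : Module.Finite Γ(P, U) Γ(M₀ ι, U) := h2
  exact pdle_localization (hU.primeIdealOf ⟨ι.base z, hz⟩).asIdeal.primeCompl (P.presheaf.stalk (ι.base z)) 2
    (StalkLoc.Basic.germₗ (M₀ ι) hz) h

include hι in
/-- The ideal of `X` has projective dimension at most one. -/
theorem pd_idealMod [IsLocallyNoetherian P] (y : P) :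
    PDle (P.presheaf.stalk y) ((ClSub.idealMod ι.ker).presheaf.stalk y) 1 := by
  obtain ⟨e⟩ := ArtinFun.QuotModIso.nonempty_iso_quotMod ι
  have h2 := pdle_of_equiv ((StalkModule.stalkModFunctor P y).mapIso e).toLinearEquiv (pd_M₀ ι hι y)
  have hS := ClSub.Quot.idealSeq_shortExact ι.ker
  haveI := hS.mono_f
  haveI := hS.epi_g
  have hsurj : Function.Surjective (StalkModule.stalkMapₗ (_root_.ClSub.toSubscheme ι.ker) y) :=
    (StalkModule.epi_iff_stalkMapₗ_surjective _).mp hS.epi_g y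
  have hinj : Function.Injective (StalkModule.stalkMapₗ (_root_.ClSub.idealModι ι.ker) y) :=
    (StalkModule.mono_iff_stalkMapₗ_injective _).mp hS.mono_f y
  have hrange : LinearMap.range (StalkModule.stalkMapₗ (_root_.ClSub.idealModι ι.ker) y) =
      LinearMap.ker (StalkModule.stalkMapₗ (_root_.ClSub.toSubscheme ι.ker) y) :=
    (ShortComplex.moduleCat_exact_iff_range_eq_ker _).mp (hS.exact.map (StalkModule.stalkModFunctor P y))
  haveI := TensorMod.FPConv.free_stalk_of_isFinLocFree (TensorMod.LocFree.of_rank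
    (TensorMod.LocFree.of_isInvertible (PicLoc.isInvertible_structureModule P))) y
  exact pdle_of_equiv ((LinearEquiv.ofInjective _ hinj).trans (LinearEquiv.ofEq _ _ hrange)).symm
    ((pdle_succ_iff hsurj 1).mp h2)

include hι in
/-- An epimorphism from a locally free module to the ideal has locally free kernel. -/
theorem isFinLocFree_kernel [IsNoetherian P] {F : P.Modules} (hF : FlatMod.IsFinLocFree F)
    (π : F ⟶ ClSub.idealMod ι.ker) [Epi π] (hc : Coh.IsCoh (ClSub.idealMod ι.ker)) :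
    FlatMod.IsFinLocFree (kernel π) := by
  have hEc : Coh.IsCoh F := Perfect.Coherent.isCoh_of_isFinLocFree hF
  have hK : Coh.IsCoh (kernel π) := CohBasics.Closure.isCoh_kernel π hEc hc.1
  haveI := ZarCoh.FP.isFP_of_isCoh _ hK
  refine TensorMod.FPCrit.isFinLocFree_of_free_stalks _ fun x => ?_
  haveI := hK.2
  haveI := hEc.2
  haveI := GenStalk.finite_stalk (kernel π) x
  haveI := TensorMod.FPConv.free_stalk_of_isFinLocFree hF x
  have hsurj : Function.Surjective (StalkModule.stalkMapₗ π x) :=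
    (StalkModule.epi_iff_stalkMapₗ_surjective π).mp inferInstance x
  have hinj : Function.Injective (StalkModule.stalkMapₗ (kernel.ι π) x) :=
    (StalkModule.mono_iff_stalkMapₗ_injective _).mp inferInstance x
  have hrange : LinearMap.range (StalkModule.stalkMapₗ (kernel.ι π) x) = LinearMap.ker (StalkModule.stalkMapₗ π x) :=
    (ShortComplex.moduleCat_exact_iff_range_eq_ker _).mp
      (((ShortComplex.mk (kernel.ι π) π (kernel.condition π)).exact_of_f_is_kernel
        (kernelIsKernel π)).map (StalkModule.stalkModFunctor P x))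
  haveI : Module.Projective (P.presheaf.stalk x) ((kernel π).presheaf.stalk x) :=
    haveI : Module.Projective (P.presheaf.stalk x) (LinearMap.ker (StalkModule.stalkMapₗ π x)) :=
      pdle_zero_iff.mp ((pdle_succ_iff hsurj 0).mp (pd_idealMod ι hι x))
    Module.Projective.of_equiv ((LinearEquiv.ofInjective _ hinj).trans (LinearEquiv.ofEq _ _ hrange)).symm
  exact Module.free_of_flat_of_isLocalRing

include hι in
/-- The Ext sheaves below the codimension vanish. -/
theorem isZero_ext_lt [IsLocallyNoetherian P] [HasInjectiveResolutions (ModSite.Mod P.sheaf)]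
    [ModSite.HasSheafHom (O := P.sheaf) (M₀ ι)] {L : P.Modules} (hL : PicF.IsInvertible L) {q : ℕ} (hq : q < 2) :
    IsZero ((ModSite.extSh (O := P.sheaf) (M₀ ι) q).obj L : P.Modules) := by
  refine Stalk.isZero_iff_stalk_subsingleton.2 fun y => ?_
  obtain ⟨φ⟩ := Cor.nonempty_stalk_equiv (M₀ ι) (FundLocal.Cocycle.isCoh_M₀ ι)
    (fun I hI => Groth.Agent.S11155.result I hI y) L q
  refine @Equiv.subsingleton _ _ φ.toEquiv ?_
  by_cases hy : y ∈ Set.range ι.base
  swap
  · haveI := PushClosed.Unit.subsingleton_stalk_push ι (Coh.structureModule X) hy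
    have hz : IsZero (ModuleCat.of (P.presheaf.stalk y) ((M₀ ι).presheaf.stalk y)) := ModuleCat.isZero_of_subsingleton _
    exact subsingleton_of_forall_eq 0 fun a => by
      rw [← Ext.mk₀_id_comp a, hz.eq_of_src (𝟙 _) 0, Ext.mk₀_zero, Ext.zero_comp]
  obtain ⟨z, rfl⟩ := hy
  obtain ⟨U, hU, hz, f, -, hreg, hker, -⟩ := FundLocal.Gen.exists_chart ι hι z
  obtain ⟨hR, hspan⟩ := FundLocal.Gen.isReg_germ ι hU f hreg hker z hz
  let R := P.presheaf.stalk (ι.base z)
  let g : Fin 2 → R := fun i => P.presheaf.germ U (ι.base z) hz (f i)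
  have hkill : ∀ i : Fin 2, ∀ v : (M₀ ι).presheaf.stalk (ι.base z), g i • v = 0 := fun i v =>
    SqZeroMod.killed_push ι _ z (g i) (show (ι.stalkMap z).hom (g i) = 0 from
      hspan.le (Ideal.subset_span ⟨i, rfl⟩)) v
  obtain ⟨e⟩ := ProjDualExt.Twist.nonempty_stalk_equiv hL (ι.base z)
  rw [show (List.ofFn fun i => P.presheaf.germ U (ι.base z) hz (f i)) = [g 0, g 1] by simp [g, List.ofFn_succ]] at hR
  have hRL := (e.toAddEquiv.isWeaklyRegular_congr
    (List.forall₂_same.2 fun r _ x => (map_smul e r x : _))).2 hR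
  rw [RingTheory.Sequence.isWeaklyRegular_cons_iff, RingTheory.Sequence.isWeaklyRegular_cons_iff] at hRL
  interval_cases q
  · exact subsingleton_of_forall_eq 0 fun x => by
      obtain ⟨x, rfl⟩ := (Ext.mk₀_bijective _ _).2 x
      rw [hom_eq_zero (fun v => hkill 0 v) hRL.1 x, Ext.mk₀_zero]
  · exact subsingleton_ext_one (fun v => hkill 0 v) (fun v => hkill 1 v) hRL.1 hRL.2.1

end Groth.Agent.Lib.SerreCorr
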