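import Groth.Agent.Lib.SerreCorr.Local
import Groth.Agent.Lib.ExtShBidualMain
import Groth.Agent.Lib.FundLocal.InvHom
import Groth.Agent.Lib.ExtShTensor
import Groth.Agent.Lib.ProjCoh.SerreDual
import Groth.Agent.Lib.ProjCoh.Horrocks
import Groth.Agent.Lib.SqZeroLift.ExtVanish
import Groth.Agent.Lib.SurfInt.Semiample
import Groth.Agent.Lib.Perfect.Top
import Groth.Agent.Lib.CurveBundle.Twist
import Groth.Agent.Lib.CurveBundle.GP
import Groth.Agent.Lib.ProjSpace.Basic
import Groth.Agent.S11905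

/-!
# The Serre correspondence
-/

set_option autoImplicit false
set_option linter.style.haveILetI false
set_option linter.unusedSectionVars false
universe u

open CategoryTheory CategoryTheory.Limits AlgebraicGeometry Opposite
open CategoryTheory.Abelian

noncomputable section

namespace Groth.Agent.Lib.SerreCorr

open Groth.Agent.Lib Groth.Agent.Lib.Modules Groth.Agent.Lib.ExtShStalk
open Groth.Agent.Lib.TensorMod.Basic Groth.Agent.Lib.ProjCoh Groth.Agent.Lib.ProjCoh.Coherent
open Groth.Agent.Lib.FundLocal.Cocycle (M₀)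
open Groth.Agent.Lib.Curves.LES (mapK isoK exactK₁ exactK₂ exactK₃)

section Abs

variable {C : Type*} [Category C] [Abelian C]

/-- Pulling back along a lift of a surjection onto a cokernel. -/
theorem exists_ses {A B O Q : C} (α : A ⟶ B) (σ : O ⟶ B) (θ : cokernel α ≅ Q) (q : O ⟶ Q) [Epi q]
    (hσ : σ ≫ cokernel.π α ≫ θ.hom = q) :
    Epi (biprod.desc σ α) ∧
    ∃ (f : kernel α ⟶ kernel (biprod.desc σ α)) (g : kernel (biprod.desc σ α) ⟶ kernel q) (w : f ≫ g = 0),
      (ShortComplex.mk f g w).ShortExact := by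
  refine ⟨Preadditive.epi_of_cancel_zero _ fun {G} h hh => ?_, ?_⟩
  · have h1 : α ≫ h = 0 := by rw [← biprod.inr_desc σ α, Category.assoc, hh, comp_zero]
    have h2 : σ ≫ h = 0 := by rw [← biprod.inl_desc σ α, Category.assoc, hh, comp_zero]
    rw [← cokernel.π_desc α h h1] at h2 ⊢
    have h3 : q ≫ θ.inv ≫ cokernel.desc α h h1 = 0 := by
      rw [← hσ]; simpa using h2
    have h4 : θ.inv ≫ cokernel.desc α h h1 = 0 := (cancel_epi q).1 (h3.trans comp_zero.symm)
    rw [show cokernel.desc α h h1 = 0 from (cancel_epi θ.inv).1 (h4.trans comp_zero.symm), comp_zero]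
  let d := biprod.desc σ α
  have hd : kernel.ι d ≫ biprod.fst ≫ σ + kernel.ι d ≫ biprod.snd ≫ α = 0 := by
    rw [← Preadditive.comp_add, ← biprod.desc_eq]
    exact kernel.condition d
  have hg : (kernel.ι d ≫ biprod.fst) ≫ q = 0 := by
    have := congrArg (fun t => t ≫ cokernel.π α ≫ θ.hom) hd
    simp only [Preadditive.add_comp, Category.assoc, cokernel.condition_assoc, zero_comp, comp_zero, add_zero] at this
    rw [← hσ]
    simpa using this
  have hf : (kernel.ι α ≫ biprod.inr) ≫ d = 0 := by simp [d]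
  let f := kernel.lift d (kernel.ι α ≫ biprod.inr) hf
  let g := kernel.lift q (kernel.ι d ≫ biprod.fst) hg
  have w : f ≫ g = 0 := by
    rw [← cancel_mono (kernel.ι q)]
    simp [f, g]
  refine ⟨f, g, w, ?_⟩
  haveI : Mono f := by
    haveI : Mono (f ≫ kernel.ι d) := by rw [kernel.lift_ι]; infer_instance
    exact mono_of_mono f (kernel.ι d)
  haveI : Epi g := by
    rw [epi_iff_surjective_up_to_refinements]
    intro T y
    obtain ⟨T', π, hπ, a, ha⟩ :=
      (ShortComplex.exact_iff_exact_up_to_refinements _).1 (ShortComplex.exact_cokernel α)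
        (y ≫ kernel.ι q ≫ σ) (by
          show (y ≫ kernel.ι q ≫ σ) ≫ cokernel.π α = 0
          rw [← cancel_mono θ.hom]
          simp [hσ, kernel.condition])
    refine ⟨T', π, hπ, kernel.lift d (biprod.lift (π ≫ y ≫ kernel.ι q) (-a)) ?_, ?_⟩
    · show _ ≫ biprod.desc σ α = 0
      rw [biprod.lift_desc]
      dsimp at ha
      simp only [Category.assoc] at ha ⊢
      rw [Preadditive.neg_comp, ha, add_neg_cancel]
    · rw [← cancel_mono (kernel.ι q)]
      simp [g]
  refine ShortComplex.ShortExact.mk' (ShortComplex.exact_of_f_is_kernel _ (KernelFork.IsLimit.ofι' _ _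
    fun {Z} t ht => ⟨kernel.lift α (t ≫ kernel.ι d ≫ biprod.snd) ?_, ?_⟩)) inferInstance inferInstance
  · have h1 : t ≫ kernel.ι d ≫ biprod.fst = 0 := by
      have := congrArg (fun s => s ≫ kernel.ι q) ht
      simpa [g] using this
    have h2 := congrArg (fun s => t ≫ s) hd
    simp only [Preadditive.comp_add, comp_zero] at h2
    rw [reassoc_of% h1, zero_comp, zero_add] at h2
    simpa using h2
  · rw [← cancel_mono (kernel.ι d)]
    have h1 : t ≫ kernel.ι d ≫ biprod.fst = 0 := by
      have := congrArg (fun s => s ≫ kernel.ι q) ht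
      simpa [g] using this
    ext <;> simp [f, h1]

end Abs

variable {n : ℕ} {k : Type u} [Field k]

local notation "ℙ" => CohB1.ProjSpace n k

variable {Y : Scheme.{u}} (i : Y ⟶ CohB1.ProjSpace n k) [IsClosedImmersion i]
  (hlci : RegImm.IsRegularImmersionOfCodim RegImm.Kind.regular 2 i)
  [HasInjectiveResolutions (ModSite.Mod (CohB1.ProjSpace n k).sheaf)]
  [∀ A : (CohB1.ProjSpace n k).Modules, ModSite.HasSheafHom (O := (CohB1.ProjSpace n k).sheaf) A]

theorem isFinLocFree_structure (X : Scheme.{u}) : FlatMod.IsFinLocFree (Coh.structureModule X) :=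
  TensorMod.LocFree.of_rank (TensorMod.LocFree.of_isInvertible (PicLoc.isInvertible_structureModule X))

include hlci in
/-- `ℋom(I, L) ≅ L` and `ℰxt¹(I, L) ≅ ℰxt²(i_* O, L)`. -/
theorem nonempty_hom_ideal {L : (CohB1.ProjSpace n k).Modules} (hL : PicF.IsInvertible L) :
    Nonempty ((Hom.R (ClSub.idealMod i.ker)).obj L ≅ L) ∧
    Nonempty (((ModSite.extSh (O := (CohB1.ProjSpace n k).sheaf) (ClSub.idealMod i.ker) 1).obj L : (CohB1.ProjSpace n k).Modules) ≅
      ((ModSite.extSh (O := (CohB1.ProjSpace n k).sheaf) (M₀ i) 2).obj L : (CohB1.ProjSpace n k).Modules)) := by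
  haveI : HasInjectiveResolutions (CohB1.ProjSpace n k).Modules :=
    ‹HasInjectiveResolutions (ModSite.Mod (CohB1.ProjSpace n k).sheaf)›
  haveI : ∀ A : (CohB1.ProjSpace n k).Modules, (Hom.R A).Additive := fun A => (Hom.adj A).right_adjoint_additive
  haveI : ∀ A : (CohB1.ProjSpace n k).Modules, PreservesFiniteLimits (Hom.R A) := fun A =>
    haveI : PreservesLimitsOfSize.{0, 0} (Hom.R A) := (Hom.adj A).rightAdjoint_preservesLimits
    PreservesLimitsOfSize.preservesFiniteLimits _
  obtain ⟨e⟩ := ArtinFun.QuotModIso.nonempty_iso_quotMod i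
  let O₁ := Coh.structureModule (CohB1.ProjSpace n k)
  let T : ShortComplex (CohB1.ProjSpace n k).Modules :=
    ShortComplex.mk (_root_.ClSub.idealModι i.ker) (_root_.ClSub.toSubscheme i.ker ≫ e.inv)
      (by rw [← Category.assoc]; exact (congrArg (· ≫ e.inv) (ClSub.Quot.idealSeq i.ker).zero).trans zero_comp)
  have hT : T.ShortExact := by
    refine ShortComplex.shortExact_of_iso ?_ (ClSub.Quot.idealSeq_shortExact i.ker)
    exact ShortComplex.isoMk (Iso.refl _) (Iso.refl _) e.symm (by exact (Category.id_comp _).trans (Category.comp_id _).symm)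
      (by exact (Category.id_comp _))
  let fG : Hom.R T.X₃ ⟶ Hom.R T.X₂ := ExtSupp.sheafHomMap (O := (CohB1.ProjSpace n k).sheaf) T.g
  let gG : Hom.R T.X₂ ⟶ Hom.R T.X₁ := ExtSupp.sheafHomMap (O := (CohB1.ProjSpace n k).sheaf) T.f
  have wG : ∀ Z : (CohB1.ProjSpace n k).Modules, fG.app Z ≫ gG.app Z = 0 := fun Z =>
    H52.HomInj.map_comp_eq_zero (O := (CohB1.ProjSpace n k).sheaf) T Z
  have hI : ∀ J : (CohB1.ProjSpace n k).Modules, Injective J → (ShortComplex.mk (fG.app J) (gG.app J) (wG J)).ShortExact := by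
    intro J hJ
    haveI : Injective (C := ModSite.Mod (CohB1.ProjSpace n k).sheaf) J := hJ
    obtain ⟨hex, hmono⟩ := H52.HomInj.exact_mono (O := (CohB1.ProjSpace n k).sheaf) (S := T) hT J
    refine { exact := hex, mono_f := hmono, epi_g := ?_ }
    exact ClSub.Basis.epi_of_surjective_affine (φ := gG.app J) fun U =>
      H52.HomInj.surjective_sections (O := (CohB1.ProjSpace n k).sheaf) (S := T) hT J (Opposite.op U.1)
  have h0 : IsZero ((Hom.R T.X₃).obj L) :=
    (isZero_ext_lt i hlci hL (q := 0) (by omega)).of_iso ((Hom.R T.X₃).rightDerivedZeroIsoSelf.app L).symm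
  haveI : Mono (gG.app L) :=
    ((ShortComplex.mk (fG.app L) (gG.app L) (wG L)).exact_iff_mono (h0.eq_of_src _ _)).1
      (H52.HomInj.exact_mono (O := (CohB1.ProjSpace n k).sheaf) (S := T) hT L).1
  have hO := fun q => ExtShStalk.Coh.isZero_E (A := O₁) (isFinLocFree_structure _) L q
  have e₃ := H30.DerivedSES.exact₃ fG gG wG hI 0 L
  haveI : Epi ((NatTrans.rightDerived gG 0).app L) :=
    (ShortComplex.exact_iff_epi _ ((isZero_ext_lt i hlci hL (q := 1) (by omega)).eq_of_tgt _ _)).1 e₃
  haveI : Epi (gG.app L) := by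
    haveI : Epi (gG.app L ≫ (Hom.R T.X₁).toRightDerivedZero.app L) := by
      rw [ExtShDivisor.toRightDerivedZero_natural gG L]
      infer_instance
    rw [show gG.app L = (gG.app L ≫ (Hom.R T.X₁).toRightDerivedZero.app L) ≫ inv ((Hom.R T.X₁).toRightDerivedZero.app L) by simp]
    infer_instance
  haveI : IsIso (gG.app L) := isIso_of_mono_of_epi _
  haveI := H30.DerivedSES.mono_δ fG gG wG hI 1 L (hO 0)
  haveI := H30.DerivedSES.epi_δ fG gG wG hI 1 L (hO 1)
  let δi := @asIso _ _ _ _ ((H30.DerivedSES.δ fG gG wG hI 1).app L) (isIso_of_mono_of_epi _)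
  exact ⟨⟨(asIso (gG.app L)).symm ≪≫ FundLocal.InvHom.homIso (leftUnit O₁) L ≪≫ rightUnit L⟩,
    ⟨δi⟩⟩

include hlci in
/-- With the determinant condition, `ℰxt¹(I, O(-c))` is the structure sheaf of `Y`. -/
theorem nonempty_ext_ideal (c : ℤ)
    (hdet : ∃ L : Y.Modules, ExtPow.IsExtPow 2 (Omega.conormal i) L ∧
      Nonempty (L ≅ (Scheme.Modules.pullback i).obj (Twist.twistProjSpace n k (-c)))) :
    Nonempty (((ModSite.extSh (O := (CohB1.ProjSpace n k).sheaf) (ClSub.idealMod i.ker) 1).obj (tw n k (-c)) : (CohB1.ProjSpace n k).Modules) ≅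
      _root_.ClSub.quotMod i.ker) := by
  obtain ⟨L, hL, ⟨a⟩⟩ := hdet
  haveI : ModSite.HasSheafHom (O := Y.sheaf) L := ModTensor.ModSite.hasSheafHom (O := Y.sheaf) _
  haveI : Coh.IsQCoh (tw n k (-c)) := (isCoh_tw (-c)).1
  obtain ⟨b⟩ := Groth.Agent.S11905.result (CohB1.ProjSpace n k) Y i 2 hlci (tw n k (-c)) (isCoh_tw (-c)).1 L hL
  obtain ⟨-, ⟨d⟩⟩ := nonempty_hom_ideal i hlci (isInvertible_tw (n := n) (R := k) (-c))
  obtain ⟨e⟩ := ArtinFun.QuotModIso.nonempty_iso_quotMod i
  let u : (Scheme.Modules.pullback i).obj (Coh.structureModule (CohB1.ProjSpace n k)) ≅ Coh.structureModule Y :=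
    (Scheme.Modules.pullback i).mapIso (TensorMod.LocFree.freeModOneIso _).symm ≪≫
      TensorMod.LocFree.pullbackFreeModIso i 1 ≪≫ TensorMod.LocFree.freeModOneIso _
  let v : CohB1.tensorMod ((Scheme.Modules.pullback i).obj (tw n k (-c))) ((Scheme.Modules.pullback i).obj (tw n k c)) ≅
      Coh.structureModule Y :=
    (TensorMod.Pullback.pullbackTensorIso i _ _).symm ≪≫
      (Scheme.Modules.pullback i).mapIso (twCancel (-c) c (neg_add_cancel c)) ≪≫ u
  let ev : CohB1.tensorMod L ((Scheme.Modules.pullback i).obj (tw n k c)) ≅ Coh.structureModule Y :=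
    tensorIso a (Iso.refl _) ≪≫ v
  exact ⟨d ≪≫ b ≪≫ (Scheme.Modules.pushforward i).mapIso
    (FundLocal.InvHom.homIso ev ((Scheme.Modules.pullback i).obj (tw n k (-c))) ≪≫ v) ≪≫ e⟩

include hlci in
/-- The extension and the local freeness of its middle term. -/
theorem exists_extension (hn : 3 ≤ n) (c : ℤ)
    (hdet : ∃ L : Y.Modules, ExtPow.IsExtPow 2 (Omega.conormal i) L ∧
      Nonempty (L ≅ (Scheme.Modules.pullback i).obj (Twist.twistProjSpace n k (-c)))) :
    ∃ S : ShortComplex (CohB1.ProjSpace n k).Modules, S.ShortExact ∧ FlatMod.IsFinLocFree S.X₂ ∧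
      Nonempty (S.X₁ ≅ Coh.structureModule (CohB1.ProjSpace n k)) ∧
      Nonempty (S.X₃ ≅ CohB1.tensorMod (ClSub.idealMod i.ker) (tw n k c)) := by
  haveI : IsLocallyNoetherian (CohB1.ProjSpace n k) := inferInstance
  haveI : CompactSpace (CohB1.ProjSpace n k) := QuasiCompact.compactSpace_of_compactSpace (CohB1.ProjSpace.toSpec n k)
  haveI : AlgebraicGeometry.IsNoetherian (CohB1.ProjSpace n k) := {}
  haveI : HasInjectiveResolutions (CohB1.ProjSpace n k).Modules :=
    ‹HasInjectiveResolutions (ModSite.Mod (CohB1.ProjSpace n k).sheaf)›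
  haveI := hasExt_of_enoughInjectives.{u} (CohB1.ProjSpace n k).Modules
  let P := CohB1.ProjSpace n k
  let L := tw n k (-c)
  have hIc : Coh.IsCoh (ClSub.idealMod i.ker) :=
    CohBasics.Closure.isCoh_kernel (_root_.ClSub.toSubscheme i.ker)
      (Perfect.Coherent.isCoh_of_isFinLocFree (isFinLocFree_structure _))
      (CohBasics.Closure.isCoh_of_iso (ArtinFun.QuotModIso.nonempty_iso_quotMod i).some (FundLocal.Cocycle.isCoh_M₀ i)).1
  obtain ⟨kk, m, π, hm, hπ⟩ := SerreDual.exists_epi_ge (n := n) (R := k) (ClSub.idealMod i.ker) hIc c.toNat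
  haveI := hπ
  have hF : FlatMod.IsFinLocFree (sumTS n k kk (-(m : ℤ))) := by
    obtain ⟨e⟩ := nonempty_freeMod_tensor (n := n) (R := k) kk (-(m : ℤ))
    exact TensorMod.LocFree.of_iso e (TensorMod.LocFree.isFinLocFree_tensorMod
      (TensorMod.LocFree.of_rank (TensorMod.LocFree.isFinLocFree_freeMod _ kk))
      (TensorMod.LocFree.of_rank (TensorMod.LocFree.of_isInvertible (isInvertible_tw _))))
  have hK := isFinLocFree_kernel i hlci hF π hIc
  let T : ShortComplex (CohB1.ProjSpace n k).Modules := ShortComplex.mk (kernel.ι π) π (kernel.condition π)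
  have hT : T.ShortExact := { exact := ShortComplex.exact_of_f_is_kernel _ (kernelIsKernel π), epi_g := hπ }
  let A := (Hom.R T.X₂).obj L
  let B := (Hom.R T.X₁).obj L
  let α : A ⟶ B := ExtShBidual.pre T.f L
  obtain ⟨a⟩ := ExtShBidual.nonempty_ext_one hT hK hF L
  obtain ⟨b⟩ := nonempty_ext_ideal i hlci c hdet
  let θ : cokernel α ≅ _root_.ClSub.quotMod i.ker := a.symm ≪≫ b
  obtain ⟨⟨h⟩, -⟩ := nonempty_hom_ideal i hlci (isInvertible_tw (n := n) (R := k) (-c))
  -- kernel of `α`
  have w1 : ExtShBidual.pre T.g L ≫ α = 0 := H52.HomInj.map_comp_eq_zero (O := (CohB1.ProjSpace n k).sheaf) T L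
  obtain ⟨hex, hmono⟩ := H52.HomInj.exact_mono (O := (CohB1.ProjSpace n k).sheaf) (S := T) hT L
  haveI : Mono (ExtShBidual.pre T.g L) := hmono
  let κ : kernel α ≅ L :=
    IsLimit.conePointUniqueUpToIso (s := KernelFork.ofι (kernel.ι α) (kernel.condition α)) (kernelIsKernel α)
      (ShortComplex.Exact.fIsKernel (S := ShortComplex.mk (ExtShBidual.pre T.g L) α w1) hex) ≪≫ h
  -- lifting the generator
  have hA : Subsingleton (Coh.HH P A 1) := by
    haveI : Subsingleton (Ext.{u} (sumTS n k kk (-(m : ℤ))) L 1) :=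
      SerreDual.subsingleton_ext_iso (Iso.refl _) (twIso (-c)) 1
        (SerreDual.subsingleton_ext_sigma _ _ kk 1 (SerreDual.subsingleton_ext_TS (by omega) one_ne_zero))
    haveI := SqZeroLift.ExtVanish.subsingleton_HH_homSh hF L 1 inferInstance
    exact (isoK k (asIso (Hom.θ T.X₂ L)) 1).toEquiv.subsingleton
  have hL2 : Subsingleton (Coh.HH P (kernel (Abelian.factorThruImage α)) 2) := by
    haveI := ProjCoh.Twist.subsingleton_HH_of_ne n k (-c) (two_ne_zero) (by omega : 2 ≠ n)
    let e₀ : kernel (Abelian.factorThruImage α) ≅ kernel α :=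
      (kernelCompMono (Abelian.factorThruImage α) (Abelian.image.ι α)).symm ≪≫
        kernelIsoOfEq (Abelian.image.fac α)
    exact (isoK k (e₀ ≪≫ κ ≪≫ twIso (-c)) 2).toEquiv.subsingleton
  have hIm : Subsingleton (Coh.HH P (Abelian.image α) 1) := by
    let T₁ : ShortComplex P.Modules :=
      ShortComplex.mk (kernel.ι (Abelian.factorThruImage α)) (Abelian.factorThruImage α) (kernel.condition _)
    have hT₁ : T₁.ShortExact := { exact := ShortComplex.exact_of_f_is_kernel _ (kernelIsKernel _) }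
    have hs : Function.Surjective (mapK k T₁.g 1) := fun y =>
      (exactK₃ k hT₁ 1 2 rfl y).1 (@Subsingleton.elim _ hL2 _ _)
    exact hs.subsingleton
  let T₂ : ShortComplex P.Modules :=
    ShortComplex.mk (Abelian.image.ι α) (cokernel.π α) (kernel.condition (cokernel.π α))
  have hT₂ : T₂.ShortExact := { exact := ShortComplex.exact_of_f_is_kernel _ (kernelIsKernel _) }
  obtain ⟨s, hs⟩ := SurfInt.Semiample.app_top_surjective_of_injective k hT₂
    (Function.injective_of_subsingleton _)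
    (θ.inv.app ⊤ ((_root_.ClSub.toSubscheme i.ker).app ⊤ (1 : Γ(P, ⊤))))
  let σ : Coh.structureModule P ⟶ B := Modules.Free.unitHom B s
  have hσ : σ ≫ cokernel.π α ≫ θ.hom = _root_.ClSub.toSubscheme i.ker := by
    refine Modules.Free.unitHom_ext ?_
    show θ.hom.app ⊤ ((cokernel.π α).app ⊤ ((Modules.Free.unitHom B s).app ⊤ (1 : Γ(P, ⊤)))) = _
    rw [Modules.Free.unitHom_app_one]
    refine (congrArg (θ.hom.app ⊤) hs).trans ?_
    rw [← ConcreteCategory.comp_apply, ← Scheme.Modules.Hom.comp_app, θ.inv_hom_id]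
    rfl
  haveI : Epi (_root_.ClSub.toSubscheme i.ker) := (ClSub.Quot.idealSeq_shortExact i.ker).epi_g
  obtain ⟨hd, f, g, w, hS⟩ := exists_ses α σ θ (_root_.ClSub.toSubscheme i.ker) hσ
  haveI := hd
  have hM : FlatMod.IsFinLocFree (kernel (biprod.desc σ α)) :=
    Perfect.Top.isFinLocFree_kernel _
      (TensorMod.LocFree.of_iso ((BinaryBiproduct.isColimit (Coh.structureModule P) A).coconePointUniqueUpToIso (coprodIsCoprod _ _)).symm
        (TensorMod.LocFree.isFinLocFree_biprod (isFinLocFree_structure _)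
          (ExtShBidual.isFinLocFree_hom hF (isInvertible_tw (-c)))))
      (ExtShBidual.isFinLocFree_hom hK (isInvertible_tw (-c)))
  haveI : (tensorBy (tw n k c)).IsEquivalence := CurveBundle.Twist.isEquivalence (isInvertible_tw c)
  haveI : (tensorBy (tw n k c)).Additive := CurveBundle.GP.additive_tensorBy _
  refine ⟨(ShortComplex.mk f g w).map (tensorBy (tw n k c)), hS.map_of_exact _,
    TensorMod.LocFree.isFinLocFree_tensorMod hM
      (TensorMod.LocFree.of_rank (TensorMod.LocFree.of_isInvertible (isInvertible_tw c))),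
    ⟨(tensorBy (tw n k c)).mapIso κ ≪≫ twCancel (-c) c (neg_add_cancel c)⟩, ⟨Iso.refl _⟩⟩

end Groth.Agent.Lib.SerreCorr
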