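import Groth.Agent.Lib.SerreCorr.Det
import Groth.Agent.Lib.FundLocal.WedgeDual
import Groth.Agent.Lib.ProjCoh.Horrocks
import Groth.Agent.Lib.PicProj.Main
import Groth.Agent.S11486

/-!
# Split Serre bundles are complete intersections
-/

set_option autoImplicit false
set_option linter.style.haveILetI false
set_option linter.unusedSectionVars false
universe u

open CategoryTheory CategoryTheory.Limits AlgebraicGeometry Opposite
open CategoryTheory.Abelian

noncomputable section

namespace Groth.Agent.Lib.SerreCorr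

open Groth.Agent.Lib Groth.Agent.Lib.Modules Groth.Agent.Lib.ExtShStalk
open Groth.Agent.Lib.TensorMod.Basic Groth.Agent.Lib.ProjCoh Groth.Agent.Lib.ProjCoh.Coherent
open Groth.Agent.Lib.Curves.LES (mapK isoK exactK₁ exactK₂ exactK₃)

variable {n : ℕ} {k : Type u} [Field k]

/-- A coproduct of two twists is a biproduct. -/
def sigmaTwoIso {C : Type*} [Category C] [Preadditive C] [HasFiniteCoproducts C] [HasBinaryBiproducts C]
    (f : Fin 2 → C) : (∐ f) ≅ f 0 ⊞ f 1 where
  hom := Sigma.desc fun j => match j with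
    | 0 => biprod.inl
    | 1 => biprod.inr
  inv := biprod.desc (Sigma.ι f 0) (Sigma.ι f 1)
  hom_inv_id := Sigma.hom_ext _ _ fun j => by fin_cases j <;> simp
  inv_hom_id := by ext <;> simp

/-- The middle term of a short exact sequence has no cohomology if the outer ones have none. -/
theorem subsingleton_mid {S : ShortComplex (CohB1.ProjSpace n k).Modules} (hS : S.ShortExact) (j : ℕ)
    (h₁ : Subsingleton (Coh.HH (CohB1.ProjSpace n k) S.X₁ j))
    (h₃ : Subsingleton (Coh.HH (CohB1.ProjSpace n k) S.X₃ j)) :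
    Subsingleton (Coh.HH (CohB1.ProjSpace n k) S.X₂ j) :=
  subsingleton_of_forall_eq 0 fun x => by
    obtain ⟨y, rfl⟩ := (exactK₂ k hS j x).1 (Subsingleton.elim _ _)
    rw [Subsingleton.elim y 0, map_zero]

/-- The last term of a short exact sequence has no cohomology if the middle one and the next of the
first have none. -/
theorem subsingleton_right {S : ShortComplex (CohB1.ProjSpace n k).Modules} (hS : S.ShortExact) (j : ℕ)
    (h₂ : Subsingleton (Coh.HH (CohB1.ProjSpace n k) S.X₂ j))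
    (h₁ : Subsingleton (Coh.HH (CohB1.ProjSpace n k) S.X₁ (j + 1))) :
    Subsingleton (Coh.HH (CohB1.ProjSpace n k) S.X₃ j) :=
  subsingleton_of_forall_eq 0 fun x => by
    obtain ⟨y, rfl⟩ := (exactK₃ k hS j (j + 1) rfl x).1 (Subsingleton.elim _ _)
    rw [Subsingleton.elim y 0, map_zero]

/-- Twists have no intermediate cohomology. -/
theorem subsingleton_tw (a d : ℤ) {j : ℕ} (h0 : j ≠ 0) (hn : j ≠ n) :
    Subsingleton (Coh.HH (CohB1.ProjSpace n k) (CohB1.tensorMod (tw n k a) (tw n k d)) j) := by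
  haveI := ProjCoh.Twist.subsingleton_HH_of_ne n k (a + d) h0 hn
  exact (isoK k (twTensor (n := n) (R := k) a d ≪≫ twIso (a + d)) j).toEquiv.subsingleton

variable {Y : Scheme.{u}} (i : Y ⟶ CohB1.ProjSpace n k) [IsClosedImmersion i]
  (hlci : RegImm.IsRegularImmersionOfCodim RegImm.Kind.regular 2 i)

include hlci in
theorem grank_idealMod : CurveBundle.Rank.grank (ClSub.idealMod i.ker) = 1 := by
  let P := CohB1.ProjSpace n k
  have h1 : FlatMod.IsFinLocFreeOfRank 1 (Coh.structureModule P) :=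
    TensorMod.LocFree.of_isInvertible (PicLoc.isInvertible_structureModule _)
  have hq : CurveBundle.Rank.grank (_root_.ClSub.quotMod i.ker) = 0 := by
    obtain ⟨e⟩ := ArtinFun.QuotModIso.nonempty_iso_quotMod i
    haveI : Subsingleton ((_root_.ClSub.quotMod i.ker).presheaf.stalk (genericPoint P)) := by
      refine Support.not_mem_support_iff.1 ?_
      rw [← Support.support_congr e]
      exact Support.not_mem_support_iff.2 (PushClosed.Unit.subsingleton_stalk_push i _ (genericPoint_mem i hlci))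
    exact Module.finrank_zero_of_subsingleton
  have h := CurveBundle.Rank.grank_add (ClSub.Quot.idealSeq_shortExact i.ker)
    (Perfect.Coherent.isCoh_of_isFinLocFree (TensorMod.LocFree.of_rank h1))
  rw [show CurveBundle.Rank.grank (ClSub.Quot.idealSeq i.ker).X₂ = 1 from CurveBundle.Rank.grank_eq_of_rank h1,
    show CurveBundle.Rank.grank (ClSub.Quot.idealSeq i.ker).X₃ = 0 from hq] at h
  exact (show CurveBundle.Rank.grank (ClSub.Quot.idealSeq i.ker).X₁ = 1 by omega)

include hlci in
/-- The twists of the ideal of a complete intersection have no low cohomology. -/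
theorem subsingleton_ideal (hn : 3 ≤ n) {a b : ℤ} (ψ : tw n k a ⊞ tw n k b ⟶ ClSub.idealMod i.ker) [Epi ψ]
    (d : ℤ) {j : ℕ} (h0 : j ≠ 0) (hj : j + 1 < n) :
    Subsingleton (Coh.HH (CohB1.ProjSpace n k) (CohB1.tensorMod (ClSub.idealMod i.ker) (tw n k d)) j) := by
  let P := CohB1.ProjSpace n k
  haveI : CompactSpace P := QuasiCompact.compactSpace_of_compactSpace (CohB1.ProjSpace.toSpec n k)
  haveI : AlgebraicGeometry.IsNoetherian P := {}
  haveI : (tensorBy (tw n k d)).IsEquivalence := CurveBundle.Twist.isEquivalence (isInvertible_tw d)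
  haveI : (tensorBy (tw n k d)).Additive := CurveBundle.GP.additive_tensorBy _
  let B : ShortComplex P.Modules :=
    ShortComplex.mk (biprod.inl : tw n k a ⟶ tw n k a ⊞ tw n k b) biprod.snd biprod.inl_snd
  have hB : B.ShortExact :=
    ShortComplex.Splitting.shortExact (ShortComplex.Splitting.ofHasBinaryBiproduct (tw n k a) (tw n k b))
  have hta := TensorMod.LocFree.of_isInvertible (isInvertible_tw (n := n) (R := k) a)
  have htb := TensorMod.LocFree.of_isInvertible (isInvertible_tw (n := n) (R := k) b)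
  have hF : FlatMod.IsFinLocFree (tw n k a ⊞ tw n k b) :=
    TensorMod.LocFree.of_iso ((BinaryBiproduct.isColimit (tw n k a) (tw n k b)).coconePointUniqueUpToIso
      (coprodIsCoprod _ _)).symm
      (TensorMod.LocFree.isFinLocFree_biprod (TensorMod.LocFree.of_rank hta) (TensorMod.LocFree.of_rank htb))
  have hFc := Perfect.Coherent.isCoh_of_isFinLocFree hF
  have hIc : Coh.IsCoh (ClSub.idealMod i.ker) :=
    CohBasics.Closure.isCoh_kernel (_root_.ClSub.toSubscheme i.ker)
      (Perfect.Coherent.isCoh_of_isFinLocFree (isFinLocFree_structure _))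
      (CohBasics.Closure.isCoh_of_iso (ArtinFun.QuotModIso.nonempty_iso_quotMod i).some (FundLocal.Cocycle.isCoh_M₀ i)).1
  have hK := isFinLocFree_kernel i hlci hF ψ hIc
  let T : ShortComplex P.Modules := ShortComplex.mk (kernel.ι ψ) ψ (kernel.condition ψ)
  have hT : T.ShortExact := { exact := ShortComplex.exact_of_f_is_kernel _ (kernelIsKernel ψ), epi_g := ‹_› }
  have hg := CurveBundle.Rank.grank_add hT hFc
  rw [show CurveBundle.Rank.grank T.X₃ = 1 from grank_idealMod i hlci,
    show CurveBundle.Rank.grank T.X₂ = CurveBundle.Rank.grank B.X₁ + CurveBundle.Rank.grank B.X₃ from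
      CurveBundle.Rank.grank_add hB hFc,
    CurveBundle.Rank.grank_eq_of_rank hta, CurveBundle.Rank.grank_eq_of_rank htb] at hg
  obtain ⟨r, hr⟩ := KAugNil98.Main.exists_rank hK
  rw [show CurveBundle.Rank.grank T.X₁ = r from CurveBundle.Rank.grank_eq_of_rank hr] at hg
  obtain rfl : r = 1 := by omega
  obtain ⟨e, ⟨ε⟩⟩ := PicProj.Main.exists_twist_iso (n := n) (R := k) (kernel ψ)
    (TensorMod.LocFree.isInvertible_of_rank_one hr)
  have h2 := subsingleton_mid (hB.map_of_exact (tensorBy (tw n k d))) j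
    (subsingleton_tw a d h0 (by omega)) (subsingleton_tw b d h0 (by omega))
  refine subsingleton_right (hT.map_of_exact (tensorBy (tw n k d))) j h2 ?_
  exact @Equiv.subsingleton _ _ (isoK k ((tensorBy (tw n k d)).mapIso ε) (j + 1)).toEquiv
    (subsingleton_tw (k := k) e d (j := j + 1) (n := n) (by omega) (by omega))

include hlci in
/-- A Serre bundle of a complete intersection splits. -/
theorem exists_split (hn : 3 ≤ n) (c : ℤ) [IsAlgClosed k] [CharZero k]
    {S : ShortComplex (CohB1.ProjSpace n k).Modules} (hS : S.ShortExact) (hE : FlatMod.IsFinLocFreeOfRank 2 S.X₂)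
    (e₁ : S.X₁ ≅ Coh.structureModule (CohB1.ProjSpace n k))
    (e₃ : S.X₃ ≅ CohB1.tensorMod (ClSub.idealMod i.ker) (tw n k c))
    {a b : ℤ} (ψ : tw n k a ⊞ tw n k b ⟶ ClSub.idealMod i.ker) [Epi ψ] :
    ∃ a' b' : ℤ, Nonempty (S.X₂ ≅ tw n k a' ⊞ tw n k b') := by
  let P := CohB1.ProjSpace n k
  have low : ∀ (j : ℕ) (d : ℤ), j ≠ 0 → j + 1 < n → Subsingleton (Coh.HH P (CohB1.tensorMod S.X₂ (tw n k d)) j) := by
    intro j d h0 hj
    haveI : (tensorBy (tw n k d)).IsEquivalence := CurveBundle.Twist.isEquivalence (isInvertible_tw d)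
    haveI : (tensorBy (tw n k d)).Additive := CurveBundle.GP.additive_tensorBy _
    refine subsingleton_mid (hS.map_of_exact (tensorBy (tw n k d))) j ?_ ?_
    · haveI := ProjCoh.Twist.subsingleton_HH_of_ne n k d h0 (by omega : j ≠ n)
      exact (isoK k ((tensorBy (tw n k d)).mapIso e₁ ≪≫ leftUnit (tw n k d) ≪≫ twIso d) j).toEquiv.subsingleton
    · haveI := subsingleton_ideal i hlci hn ψ (c + d) h0 hj
      exact (isoK k ((tensorBy (tw n k d)).mapIso e₃ ≪≫ assoc _ (tw n k c) (tw n k d) ≪≫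
        tensorIso (Iso.refl _) (twTensor c d)) j).toEquiv.subsingleton
  have all : ∀ (j : ℕ) (d : ℤ), 0 < j → j < n → Subsingleton (Coh.HH P (CohB1.tensorMod S.X₂ (tw n k d)) j) := by
    intro j d h0 hj
    rcases Nat.lt_or_ge (j + 1) n with h | h
    · exact low j d (by omega) h
    haveI := hasExt_of_enoughInjectives.{u} P.Modules
    have hlf := TensorMod.LocFree.of_rank hE
    have hMc : Coh.IsCoh (CohB1.tensorMod S.X₂ (tw n k d)) :=
      isCoh_tensorMod (Perfect.Coherent.isCoh_of_isFinLocFree hlf) (isCoh_tw d)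
    let w : ℤ := -((n : ℤ) + 1)
    haveI : ∀ A : P.Modules, ModSite.HasSheafHom (O := P.sheaf) A := fun A =>
      ModTensor.ModSite.hasSheafHom (O := P.sheaf) _
    obtain ⟨D, hD, ⟨eD⟩⟩ := exists_det i hlci c hS e₁ e₃ hE
    obtain ⟨ew⟩ := FundLocal.WedgeDual.nonempty_iso (p := 1) (q := 1) rfl hE
      (ExtFilt.Lambda.isExtPow_one _) (ExtFilt.Lambda.isExtPow_one _) hD
    have hb := Modules.DualBasis.hasDBases_of_isFinLocFree hlf
    let hom : ∀ W : P.Modules, (Hom.R S.X₂).obj W ≅ CohB1.tensorMod (TensorMod.Dual.dual S.X₂) W := fun W =>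
      (ExtShTensor.homTensorIso hb).app W
    let du : S.X₂ ≅ CohB1.tensorMod (TensorMod.Dual.dual S.X₂) (tw n k c) :=
      ew ≪≫ (Hom.R S.X₂).mapIso eD ≪≫ hom _
    let W' : P.Modules := CohB1.tensorMod (tw n k w) (tw n k (-d))
    let j' : (Hom.R S.X₂).obj W' ≅ CohB1.tensorMod S.X₂ (tw n k (-c + (w + -d))) :=
      hom W' ≪≫ tensorIso (Iso.refl _) (twTensor w (-d) ≪≫
        eqToIso (congrArg (tw n k) (by ring : w + -d = c + (-c + (w + -d)))) ≪≫ (twTensor c (-c + (w + -d))).symm) ≪≫
      (assoc _ _ _).symm ≪≫ tensorIso du.symm (Iso.refl _)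
    haveI hl : Subsingleton (Coh.HH P (CohB1.tensorMod S.X₂ (tw n k (-c + (w + -d)))) 1) :=
      low 1 _ one_ne_zero (by omega)
    haveI : DCoh.HasSheafHom S.X₂ := SqZeroLift.ExtVanish.hasSheafHom' _
    have hh : Subsingleton (Coh.HH P ((DCoh.sheafHom S.X₂).obj W') 1) :=
      @Equiv.subsingleton _ _ (isoK k (((DCoh.sheafHomAdj S.X₂).rightAdjointUniq (Hom.adj S.X₂)).app W' ≪≫ j') 1).toEquiv hl
    haveI hx : Subsingleton (Ext.{u} S.X₂ W' 1) :=
      @Equiv.subsingleton _ _ (ExtHH.SheafHom.extLinearEquiv k hlf W' 1).toEquiv hh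
    haveI : (tensorBy (tw n k (-d))).IsEquivalence := CurveBundle.Twist.isEquivalence (isInvertible_tw (-d))
    haveI : (tensorBy (tw n k (-d))).Additive := CurveBundle.GP.additive_tensorBy _
    haveI : Subsingleton (Ext.{u} (CohB1.tensorMod S.X₂ (tw n k d)) (tw n k w) 1) :=
      SerreDual.subsingleton_ext_equiv (tensorBy (tw n k (-d))) _ _ 1
        (SerreDual.subsingleton_ext_iso (assoc S.X₂ (tw n k d) (tw n k (-d)) ≪≫
          tensorIso (Iso.refl _) (twCancel d (-d) (add_neg_cancel d)) ≪≫ rightUnit _) (Iso.refl _) 1 hx)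
    obtain ⟨θ⟩ := SerreDual.nonempty_equiv_tw (n := n) (k := k) (i := 1) (j := j) (by omega) _ hMc
    haveI : Subsingleton (Module.Dual k (Coh.HH P (CohB1.tensorMod S.X₂ (tw n k d)) j)) := θ.symm.toEquiv.subsingleton
    exact (Module.subsingleton_dual_iff k).1 inferInstance
  obtain ⟨f, ⟨ε⟩⟩ := (Groth.Agent.S11486.result k n 2 S.X₂ hE).2 all
  exact ⟨f 0, f 1, ⟨ε ≪≫ sigmaTwoIso _⟩⟩

/-- A split Serre bundle exhibits two generators of the ideal. -/
theorem exists_generators (c : ℤ) {S : ShortComplex (CohB1.ProjSpace n k).Modules} (hS : S.ShortExact)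
    (e₃ : S.X₃ ≅ CohB1.tensorMod (ClSub.idealMod i.ker) (tw n k c)) {a' b' : ℤ}
    (e : S.X₂ ≅ tw n k a' ⊞ tw n k b') :
    ∃ (a b : ℤ) (ψ : tw n k (-a) ⊞ tw n k (-b) ⟶ ClSub.idealMod i.ker), Epi ψ := by
  haveI : (tensorBy (tw n k (-c))).IsEquivalence := CurveBundle.Twist.isEquivalence (isInvertible_tw (-c))
  haveI : (tensorBy (tw n k (-c))).Additive := CurveBundle.GP.additive_tensorBy _
  haveI := hS.epi_g
  haveI : PreservesBinaryBiproducts (tensorBy (tw n k (-c))) := preservesBinaryBiproducts_of_preservesBiproducts _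
  let t : ∀ x : ℤ, tw n k (-(c - x)) ≅ (tensorBy (tw n k (-c))).obj (tw n k x) := fun x =>
    eqToIso (congrArg (tw n k) (by ring : -(c - x) = x + -c)) ≪≫ (twTensor x (-c)).symm
  refine ⟨c - a', c - b', (biprod.mapIso (t a') (t b') ≪≫
      ((tensorBy (tw n k (-c))).mapBiprod (tw n k a') (tw n k b')).symm ≪≫
      (tensorBy (tw n k (-c))).mapIso e.symm).hom ≫ (tensorBy (tw n k (-c))).map S.g ≫
      ((tensorBy (tw n k (-c))).mapIso e₃ ≪≫ assoc _ (tw n k c) (tw n k (-c)) ≪≫
        tensorIso (Iso.refl _) (twCancel c (-c) (add_neg_cancel c)) ≪≫ rightUnit _).hom, inferInstance⟩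

end Groth.Agent.Lib.SerreCorr
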